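import Cfsg.Agent.H6.Fi24.Pres
import Cfsg.Agent.H6.Fi24.Chk0
import Cfsg.Agent.H6.Fi24.Chk1
import Cfsg.Agent.H6.Fi24.Chk2
import Cfsg.Agent.H6.Fi24.Chk3
import Cfsg.Agent.H6.Fi24.Chk4
import Cfsg.Agent.H6.Fi24.Chk5
import Cfsg.Agent.H6.Fi24.Chk6
import Cfsg.Agent.H6.Fi24.Chk7
import Cfsg.Agent.H6.Fi24.Chk8
import Cfsg.Agent.H6.Fi24.Chk9
import Cfsg.Agent.H6.Fi24.Chk10
import Cfsg.Agent.H6.Fi24.Chk11
import Cfsg.Agent.H6.Fi24.Chk12
import Cfsg.Agent.H6.Fi24.Chk13
import Cfsg.Agent.H6.Fi24.Chk14
import Cfsg.Agent.H6.Fi24.Chk15
import Cfsg.Agent.H6.Fi24.Chk16
import Cfsg.Agent.H6.Fi24.Chk17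
import Cfsg.Agent.H6.Fi24.Chk18
import Cfsg.Agent.H6.Fi24.Chk19
import Cfsg.Agent.H6.Fi24.Chk20
import Cfsg.Agent.H6.Fi24.Chk21
import Cfsg.Agent.H6.Fi24.Chk22
import Cfsg.Agent.H6.Fi24.Chk23
import Cfsg.Agent.H6.Fi24.Chk24
import Cfsg.Agent.H6.Fi24.Chk25
import Cfsg.Agent.H6.Fi24.Chk26
import Cfsg.Agent.H6.Fi24.Chk27
import Cfsg.Agent.H6.Fi24.Chk28
import Cfsg.Agent.H6.Fi24.Chk29
import Cfsg.Agent.H6.Fi24.Chk30
import Cfsg.Agent.H6.Fi24.Chk31
import Cfsg.Agent.H6.Fi24.Chk32
import Cfsg.Agent.H6.Fi24.Chk33
import Cfsg.Agent.H6.Fi24.Chk34
import Cfsg.Agent.H6.Fi24.Chk35
import Cfsg.Agent.H6.Fi24.Chk36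
import Cfsg.Agent.H6.Fi24.Chk37
import Cfsg.Agent.H6.Fi24.Chk38
import Cfsg.Agent.H6.Fi24.Chk39
import Cfsg.Agent.H6.Fi24.Chk40
import Cfsg.Agent.H6.Fi24.Chk41
import Cfsg.Agent.H6.Fi24.Chk42
import Cfsg.Agent.H6.Fi24.Chk43
import Cfsg.Agent.H6.Fi24.Chk44
import Cfsg.Agent.H6.Fi24.Chk45
import Cfsg.Agent.H6.Fi24.Chk46
import Cfsg.Agent.H6.Fi24.Chk47
import Cfsg.Agent.H6.Fi24.Chk48
import Cfsg.Agent.H6.Fi24.Chk49
import Cfsg.Agent.H6.Fi24.Chk50
import Cfsg.Agent.H6.Fi24.Chk51
import Cfsg.Agent.H6.Fi24.Chk52
import Cfsg.Agent.H6.Fi24.Chk53
import Cfsg.Agent.H6.Fi24.Chk54
import Cfsg.Agent.H6.Fi24.Chk55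
import Cfsg.Agent.H6.Fi24.Chk56
import Cfsg.Agent.H6.Fi24.Chk57
import Cfsg.Agent.H6.Fi24.Chk58
import Cfsg.Agent.H6.Fi24.Chk59
import Cfsg.Agent.H6.Fi24.Chk60
import Cfsg.Agent.H6.Fi24.Chk61
import Cfsg.Agent.H6.Fi24.Chk62
import Cfsg.Agent.H6.Fi24.Chk63
import Cfsg.Agent.H6.Fi24.Chk64
import Cfsg.Agent.H6.Fi24.Chk65
import Cfsg.Agent.H6.Fi24.Chk66
import Cfsg.Agent.H6.Fi24.Chk67
import Cfsg.Agent.H6.Fi24.Chk68
import Cfsg.Agent.H6.Fi24.Chk69
import Cfsg.Agent.H6.Fi24.Chk70
import Cfsg.Agent.H6.Fi24.Chk71
import Cfsg.Agent.H6.Fi24.Chk72
import Cfsg.Agent.H6.Fi24.Chk73
import Cfsg.Agent.H6.Fi24.Chk74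
import Cfsg.Agent.H6.Fi24.Chk75
import Cfsg.Agent.H6.Fi24.Chk76
import Cfsg.Agent.H6.Fi24.Chk77
import Cfsg.Agent.H6.Fi24.Chk78
import Cfsg.Agent.H6.Fi24.Chk79
import Cfsg.Agent.H6.Fi24.Chk80
import Cfsg.Agent.H6.Fi24.Chk81
import Cfsg.Agent.H6.Fi24.Chk82
import Cfsg.Agent.H6.Fi24.Chk83
import Cfsg.Agent.H6.Fi24.Chk84

set_option autoImplicit false
set_option maxRecDepth 100000
set_option Elab.async false

namespace Cfsg.H6.Fi24

theorem ptOK : PtOK img 306936 LS EQS := ptOK_of_chk fun p h1 h2 => by
  rw [← ptU_eq]
  exact (range_join (range_join (range_join (range_join (range_join (range_join (range_join (range_join (range_join (allR_range p0 (by norm_num : 0 + 384 = 384)) (range_join (allR_range p1 (by norm_num : 384 + 384 = 768)) (allR_range p2 (by norm_num : 768 + 384 = 1152)))) (range_join (allR_range p3 (by norm_num : 1152 + 384 = 1536)) (range_join (allR_range p4 (by norm_num : 1536 + 384 = 1920)) (allR_range p5 (by norm_num : 1920 + 384 = 2304))))) (range_join (range_join (allR_range p6 (by norm_num : 2304 + 384 = 2688)) (range_join (allR_range p7 (by norm_num : 2688 + 384 = 3072)) (allR_range p8 (by norm_num : 3072 + 384 = 3456)))) (range_join (allR_range p9 (by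 norm_num : 3456 + 384 = 3840)) (range_join (allR_range p10 (by norm_num : 3840 + 384 = 4224)) (allR_range p11 (by norm_num : 4224 + 384 = 4608)))))) (range_join (range_join (range_join (allR_range p12 (by norm_num : 4608 + 384 = 4992)) (range_join (allR_range p13 (by norm_num : 4992 + 384 = 5376)) (allR_range p14 (by norm_num : 5376 + 384 = 5760)))) (range_join (allR_range p15 (by norm_num : 5760 + 384 = 6144)) (range_join (allR_range p16 (by norm_num : 6144 + 384 = 6528)) (allR_range p17 (by norm_num : 6528 + 384 = 6912))))) (range_join (range_join (allR_range p18 (by norm_num : 6912 + 384 = 7296)) (range_join (allR_range p19 (by norm_num : 7296 + 384 = 7680)) (allR_range p20 (by norm_num : 7680 + 384 = 8064)))) (range_join (range_join (allR_range p21 (by norm_num : 8064 + 384 = 8448)) (allR_range p22 (by norm_num : 8448 + 384 = 8832))) (range_join (allR_range p23 (by norm_num : 8832 + 384 = 9216)) (allR_range p24 (by norm_num : 9216 + 384 = 9600))))))) (range_join (range_join (range_join (range_join (allR_range p25 (by norm_num : 9600 + 384 = 9984)) (range_join (allR_range p26 (by norm_num : 9984 + 384 = 10368)) (allR_range p27 (by norm_num : 10368 + 384 = 10752)))) (range_join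 (allR_range p28 (by norm_num : 10752 + 384 = 11136)) (range_join (allR_range p29 (by norm_num : 11136 + 384 = 11520)) (allR_range p30 (by norm_num : 11520 + 384 = 11904))))) (range_join (range_join (allR_range p31 (by norm_num : 11904 + 384 = 12288)) (range_join (allR_range p32 (by norm_num : 12288 + 384 = 12672)) (allR_range p33 (by norm_num : 12672 + 384 = 13056)))) (range_join (allR_range p34 (by norm_num : 13056 + 384 = 13440)) (range_join (allR_range p35 (by norm_num : 13440 + 384 = 13824)) (allR_range p36 (by norm_num : 13824 + 384 = 14208)))))) (range_join (range_join (range_join (allR_range p37 (by norm_num : 14208 + 384 = 14592)) (range_join (allR_range p38 (by norm_num : 14592 + 384 = 14976)) (allR_range p39 (by norm_num : 14976 + 384 = 15360)))) (range_join (allR_range p40 (by norm_num : 15360 + 384 = 15744)) (range_join (allR_range p41 (by norm_num : 15744 + 384 = 16128)) (allR_range p42 (by norm_num : 16128 + 384 = 16512))))) (range_join (range_join (allR_range p43 (by norm_num : 16512 + 384 = 16896)) (range_join (allR_range p44 (by norm_num : 16896 + 384 = 17280)) (allR_range p45 (by norm_num : 17280 + 384 = 17664)))) (range_join (range_join (allR_range p46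 (by norm_num : 17664 + 384 = 18048)) (allR_range p47 (by norm_num : 18048 + 384 = 18432))) (range_join (allR_range p48 (by norm_num : 18432 + 384 = 18816)) (allR_range p49 (by norm_num : 18816 + 384 = 19200)))))))) (range_join (range_join (range_join (range_join (range_join (allR_range p50 (by norm_num : 19200 + 384 = 19584)) (range_join (allR_range p51 (by norm_num : 19584 + 384 = 19968)) (allR_range p52 (by norm_num : 19968 + 384 = 20352)))) (range_join (allR_range p53 (by norm_num : 20352 + 384 = 20736)) (range_join (allR_range p54 (by norm_num : 20736 + 384 = 21120)) (allR_range p55 (by norm_num : 21120 + 384 = 21504))))) (range_join (range_join (allR_range p56 (by norm_num : 21504 + 384 = 21888)) (range_join (allR_range p57 (by norm_num : 21888 + 384 = 22272)) (allR_range p58 (by norm_num : 22272 + 384 = 22656)))) (range_join (allR_range p59 (by norm_num : 22656 + 384 = 23040)) (range_join (allR_range p60 (by norm_num : 23040 + 384 = 23424)) (allR_range p61 (by norm_num : 23424 + 384 = 23808)))))) (range_join (range_join (range_join (allR_range p62 (by norm_num : 23808 + 384 = 24192)) (range_join (allR_range p63 (by norm_num : 24192 + 384 = 24576)) (allR_range p64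 (by norm_num : 24576 + 384 = 24960)))) (range_join (allR_range p65 (by norm_num : 24960 + 384 = 25344)) (range_join (allR_range p66 (by norm_num : 25344 + 384 = 25728)) (allR_range p67 (by norm_num : 25728 + 384 = 26112))))) (range_join (range_join (allR_range p68 (by norm_num : 26112 + 384 = 26496)) (range_join (allR_range p69 (by norm_num : 26496 + 384 = 26880)) (allR_range p70 (by norm_num : 26880 + 384 = 27264)))) (range_join (range_join (allR_range p71 (by norm_num : 27264 + 384 = 27648)) (allR_range p72 (by norm_num : 27648 + 384 = 28032))) (range_join (allR_range p73 (by norm_num : 28032 + 384 = 28416)) (allR_range p74 (by norm_num : 28416 + 384 = 28800))))))) (range_join (range_join (range_join (range_join (allR_range p75 (by norm_num : 28800 + 384 = 29184)) (range_join (allR_range p76 (by norm_num : 29184 + 384 = 29568)) (allR_range p77 (by norm_num : 29568 + 384 = 29952)))) (range_join (allR_range p78 (by norm_num : 29952 + 384 = 30336)) (range_join (allR_range p79 (by norm_num : 30336 + 384 = 30720)) (allR_range p80 (by norm_num : 30720 + 384 = 31104))))) (range_join (range_join (allR_range p81 (by norm_num : 31104 + 384 = 31488)) (range_join (allR_range p82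 (by norm_num : 31488 + 384 = 31872)) (allR_range p83 (by norm_num : 31872 + 384 = 32256)))) (range_join (allR_range p84 (by norm_num : 32256 + 384 = 32640)) (range_join (allR_range p85 (by norm_num : 32640 + 384 = 33024)) (allR_range p86 (by norm_num : 33024 + 384 = 33408)))))) (range_join (range_join (range_join (allR_range p87 (by norm_num : 33408 + 384 = 33792)) (range_join (allR_range p88 (by norm_num : 33792 + 384 = 34176)) (allR_range p89 (by norm_num : 34176 + 384 = 34560)))) (range_join (allR_range p90 (by norm_num : 34560 + 384 = 34944)) (range_join (allR_range p91 (by norm_num : 34944 + 384 = 35328)) (allR_range p92 (by norm_num : 35328 + 384 = 35712))))) (range_join (range_join (allR_range p93 (by norm_num : 35712 + 384 = 36096)) (range_join (allR_range p94 (by norm_num : 36096 + 384 = 36480)) (allR_range p95 (by norm_num : 36480 + 384 = 36864)))) (range_join (range_join (allR_range p96 (by norm_num : 36864 + 384 = 37248)) (allR_range p97 (by norm_num : 37248 + 384 = 37632))) (range_join (allR_range p98 (by norm_num : 37632 + 384 = 38016)) (allR_range p99 (by norm_num : 38016 + 384 = 38400))))))))) (range_join (range_join (range_join (range_join (range_join (range_join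 (allR_range p100 (by norm_num : 38400 + 384 = 38784)) (range_join (allR_range p101 (by norm_num : 38784 + 384 = 39168)) (allR_range p102 (by norm_num : 39168 + 384 = 39552)))) (range_join (allR_range p103 (by norm_num : 39552 + 384 = 39936)) (range_join (allR_range p104 (by norm_num : 39936 + 384 = 40320)) (allR_range p105 (by norm_num : 40320 + 384 = 40704))))) (range_join (range_join (allR_range p106 (by norm_num : 40704 + 384 = 41088)) (range_join (allR_range p107 (by norm_num : 41088 + 384 = 41472)) (allR_range p108 (by norm_num : 41472 + 384 = 41856)))) (range_join (allR_range p109 (by norm_num : 41856 + 384 = 42240)) (range_join (allR_range p110 (by norm_num : 42240 + 384 = 42624)) (allR_range p111 (by norm_num : 42624 + 384 = 43008)))))) (range_join (range_join (range_join (allR_range p112 (by norm_num : 43008 + 384 = 43392)) (range_join (allR_range p113 (by norm_num : 43392 + 384 = 43776)) (allR_range p114 (by norm_num : 43776 + 384 = 44160)))) (range_join (allR_range p115 (by norm_num : 44160 + 384 = 44544)) (range_join (allR_range p116 (by norm_num : 44544 + 384 = 44928)) (allR_range p117 (by norm_num : 44928 + 384 = 45312))))) (range_join (range_join (allR_range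 p118 (by norm_num : 45312 + 384 = 45696)) (range_join (allR_range p119 (by norm_num : 45696 + 384 = 46080)) (allR_range p120 (by norm_num : 46080 + 384 = 46464)))) (range_join (range_join (allR_range p121 (by norm_num : 46464 + 384 = 46848)) (allR_range p122 (by norm_num : 46848 + 384 = 47232))) (range_join (allR_range p123 (by norm_num : 47232 + 384 = 47616)) (allR_range p124 (by norm_num : 47616 + 384 = 48000))))))) (range_join (range_join (range_join (range_join (allR_range p125 (by norm_num : 48000 + 384 = 48384)) (range_join (allR_range p126 (by norm_num : 48384 + 384 = 48768)) (allR_range p127 (by norm_num : 48768 + 384 = 49152)))) (range_join (allR_range p128 (by norm_num : 49152 + 384 = 49536)) (range_join (allR_range p129 (by norm_num : 49536 + 384 = 49920)) (allR_range p130 (by norm_num : 49920 + 384 = 50304))))) (range_join (range_join (allR_range p131 (by norm_num : 50304 + 384 = 50688)) (range_join (allR_range p132 (by norm_num : 50688 + 384 = 51072)) (allR_range p133 (by norm_num : 51072 + 384 = 51456)))) (range_join (allR_range p134 (by norm_num : 51456 + 384 = 51840)) (range_join (allR_range p135 (by norm_num : 51840 + 384 = 52224)) (allR_range p136 (by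 norm_num : 52224 + 384 = 52608)))))) (range_join (range_join (range_join (allR_range p137 (by norm_num : 52608 + 384 = 52992)) (range_join (allR_range p138 (by norm_num : 52992 + 384 = 53376)) (allR_range p139 (by norm_num : 53376 + 384 = 53760)))) (range_join (allR_range p140 (by norm_num : 53760 + 384 = 54144)) (range_join (allR_range p141 (by norm_num : 54144 + 384 = 54528)) (allR_range p142 (by norm_num : 54528 + 384 = 54912))))) (range_join (range_join (allR_range p143 (by norm_num : 54912 + 384 = 55296)) (range_join (allR_range p144 (by norm_num : 55296 + 384 = 55680)) (allR_range p145 (by norm_num : 55680 + 384 = 56064)))) (range_join (range_join (allR_range p146 (by norm_num : 56064 + 384 = 56448)) (allR_range p147 (by norm_num : 56448 + 384 = 56832))) (range_join (allR_range p148 (by norm_num : 56832 + 384 = 57216)) (allR_range p149 (by norm_num : 57216 + 384 = 57600)))))))) (range_join (range_join (range_join (range_join (range_join (allR_range p150 (by norm_num : 57600 + 384 = 57984)) (range_join (allR_range p151 (by norm_num : 57984 + 384 = 58368)) (allR_range p152 (by norm_num : 58368 + 384 = 58752)))) (range_join (allR_range p153 (by norm_num : 58752 + 384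 = 59136)) (range_join (allR_range p154 (by norm_num : 59136 + 384 = 59520)) (allR_range p155 (by norm_num : 59520 + 384 = 59904))))) (range_join (range_join (allR_range p156 (by norm_num : 59904 + 384 = 60288)) (range_join (allR_range p157 (by norm_num : 60288 + 384 = 60672)) (allR_range p158 (by norm_num : 60672 + 384 = 61056)))) (range_join (allR_range p159 (by norm_num : 61056 + 384 = 61440)) (range_join (allR_range p160 (by norm_num : 61440 + 384 = 61824)) (allR_range p161 (by norm_num : 61824 + 384 = 62208)))))) (range_join (range_join (range_join (allR_range p162 (by norm_num : 62208 + 384 = 62592)) (range_join (allR_range p163 (by norm_num : 62592 + 384 = 62976)) (allR_range p164 (by norm_num : 62976 + 384 = 63360)))) (range_join (allR_range p165 (by norm_num : 63360 + 384 = 63744)) (range_join (allR_range p166 (by norm_num : 63744 + 384 = 64128)) (allR_range p167 (by norm_num : 64128 + 384 = 64512))))) (range_join (range_join (allR_range p168 (by norm_num : 64512 + 384 = 64896)) (range_join (allR_range p169 (by norm_num : 64896 + 384 = 65280)) (allR_range p170 (by norm_num : 65280 + 384 = 65664)))) (range_join (range_join (allR_range p171 (by norm_num : 65664 +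 384 = 66048)) (allR_range p172 (by norm_num : 66048 + 384 = 66432))) (range_join (allR_range p173 (by norm_num : 66432 + 384 = 66816)) (allR_range p174 (by norm_num : 66816 + 384 = 67200))))))) (range_join (range_join (range_join (range_join (allR_range p175 (by norm_num : 67200 + 384 = 67584)) (range_join (allR_range p176 (by norm_num : 67584 + 384 = 67968)) (allR_range p177 (by norm_num : 67968 + 384 = 68352)))) (range_join (allR_range p178 (by norm_num : 68352 + 384 = 68736)) (range_join (allR_range p179 (by norm_num : 68736 + 384 = 69120)) (allR_range p180 (by norm_num : 69120 + 384 = 69504))))) (range_join (range_join (allR_range p181 (by norm_num : 69504 + 384 = 69888)) (range_join (allR_range p182 (by norm_num : 69888 + 384 = 70272)) (allR_range p183 (by norm_num : 70272 + 384 = 70656)))) (range_join (allR_range p184 (by norm_num : 70656 + 384 = 71040)) (range_join (allR_range p185 (by norm_num : 71040 + 384 = 71424)) (allR_range p186 (by norm_num : 71424 + 384 = 71808)))))) (range_join (range_join (range_join (allR_range p187 (by norm_num : 71808 + 384 = 72192)) (range_join (allR_range p188 (by norm_num : 72192 + 384 = 72576)) (allR_range p189 (by norm_num : 72576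 + 384 = 72960)))) (range_join (allR_range p190 (by norm_num : 72960 + 384 = 73344)) (range_join (allR_range p191 (by norm_num : 73344 + 384 = 73728)) (allR_range p192 (by norm_num : 73728 + 384 = 74112))))) (range_join (range_join (allR_range p193 (by norm_num : 74112 + 384 = 74496)) (range_join (allR_range p194 (by norm_num : 74496 + 384 = 74880)) (allR_range p195 (by norm_num : 74880 + 384 = 75264)))) (range_join (range_join (allR_range p196 (by norm_num : 75264 + 384 = 75648)) (allR_range p197 (by norm_num : 75648 + 384 = 76032))) (range_join (allR_range p198 (by norm_num : 76032 + 384 = 76416)) (allR_range p199 (by norm_num : 76416 + 384 = 76800)))))))))) (range_join (range_join (range_join (range_join (range_join (range_join (range_join (allR_range p200 (by norm_num : 76800 + 384 = 77184)) (range_join (allR_range p201 (by norm_num : 77184 + 384 = 77568)) (allR_range p202 (by norm_num : 77568 + 384 = 77952)))) (range_join (allR_range p203 (by norm_num : 77952 + 384 = 78336)) (range_join (allR_range p204 (by norm_num : 78336 + 384 = 78720)) (allR_range p205 (by norm_num : 78720 + 384 = 79104))))) (range_join (range_join (allR_range p206 (by norm_num : 79104 + 384 = 79488))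 (range_join (allR_range p207 (by norm_num : 79488 + 384 = 79872)) (allR_range p208 (by norm_num : 79872 + 384 = 80256)))) (range_join (allR_range p209 (by norm_num : 80256 + 384 = 80640)) (range_join (allR_range p210 (by norm_num : 80640 + 384 = 81024)) (allR_range p211 (by norm_num : 81024 + 384 = 81408)))))) (range_join (range_join (range_join (allR_range p212 (by norm_num : 81408 + 384 = 81792)) (range_join (allR_range p213 (by norm_num : 81792 + 384 = 82176)) (allR_range p214 (by norm_num : 82176 + 384 = 82560)))) (range_join (allR_range p215 (by norm_num : 82560 + 384 = 82944)) (range_join (allR_range p216 (by norm_num : 82944 + 384 = 83328)) (allR_range p217 (by norm_num : 83328 + 384 = 83712))))) (range_join (range_join (allR_range p218 (by norm_num : 83712 + 384 = 84096)) (range_join (allR_range p219 (by norm_num : 84096 + 384 = 84480)) (allR_range p220 (by norm_num : 84480 + 384 = 84864)))) (range_join (range_join (allR_range p221 (by norm_num : 84864 + 384 = 85248)) (allR_range p222 (by norm_num : 85248 + 384 = 85632))) (range_join (allR_range p223 (by norm_num : 85632 + 384 = 86016)) (allR_range p224 (by norm_num : 86016 + 384 = 86400))))))) (range_join (range_join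 (range_join (range_join (allR_range p225 (by norm_num : 86400 + 384 = 86784)) (range_join (allR_range p226 (by norm_num : 86784 + 384 = 87168)) (allR_range p227 (by norm_num : 87168 + 384 = 87552)))) (range_join (allR_range p228 (by norm_num : 87552 + 384 = 87936)) (range_join (allR_range p229 (by norm_num : 87936 + 384 = 88320)) (allR_range p230 (by norm_num : 88320 + 384 = 88704))))) (range_join (range_join (allR_range p231 (by norm_num : 88704 + 384 = 89088)) (range_join (allR_range p232 (by norm_num : 89088 + 384 = 89472)) (allR_range p233 (by norm_num : 89472 + 384 = 89856)))) (range_join (allR_range p234 (by norm_num : 89856 + 384 = 90240)) (range_join (allR_range p235 (by norm_num : 90240 + 384 = 90624)) (allR_range p236 (by norm_num : 90624 + 384 = 91008)))))) (range_join (range_join (range_join (allR_range p237 (by norm_num : 91008 + 384 = 91392)) (range_join (allR_range p238 (by norm_num : 91392 + 384 = 91776)) (allR_range p239 (by norm_num : 91776 + 384 = 92160)))) (range_join (allR_range p240 (by norm_num : 92160 + 384 = 92544)) (range_join (allR_range p241 (by norm_num : 92544 + 384 = 92928)) (allR_range p242 (by norm_num : 92928 + 384 = 93312))))) (range_join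 (range_join (allR_range p243 (by norm_num : 93312 + 384 = 93696)) (range_join (allR_range p244 (by norm_num : 93696 + 384 = 94080)) (allR_range p245 (by norm_num : 94080 + 384 = 94464)))) (range_join (range_join (allR_range p246 (by norm_num : 94464 + 384 = 94848)) (allR_range p247 (by norm_num : 94848 + 384 = 95232))) (range_join (allR_range p248 (by norm_num : 95232 + 384 = 95616)) (allR_range p249 (by norm_num : 95616 + 384 = 96000)))))))) (range_join (range_join (range_join (range_join (range_join (allR_range p250 (by norm_num : 96000 + 384 = 96384)) (range_join (allR_range p251 (by norm_num : 96384 + 384 = 96768)) (allR_range p252 (by norm_num : 96768 + 384 = 97152)))) (range_join (allR_range p253 (by norm_num : 97152 + 384 = 97536)) (range_join (allR_range p254 (by norm_num : 97536 + 384 = 97920)) (allR_range p255 (by norm_num : 97920 + 384 = 98304))))) (range_join (range_join (allR_range p256 (by norm_num : 98304 + 384 = 98688)) (range_join (allR_range p257 (by norm_num : 98688 + 384 = 99072)) (allR_range p258 (by norm_num : 99072 + 384 = 99456)))) (range_join (allR_range p259 (by norm_num : 99456 + 384 = 99840)) (range_join (allR_range p260 (by norm_num : 99840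 + 384 = 100224)) (allR_range p261 (by norm_num : 100224 + 384 = 100608)))))) (range_join (range_join (range_join (allR_range p262 (by norm_num : 100608 + 384 = 100992)) (range_join (allR_range p263 (by norm_num : 100992 + 384 = 101376)) (allR_range p264 (by norm_num : 101376 + 384 = 101760)))) (range_join (allR_range p265 (by norm_num : 101760 + 384 = 102144)) (range_join (allR_range p266 (by norm_num : 102144 + 384 = 102528)) (allR_range p267 (by norm_num : 102528 + 384 = 102912))))) (range_join (range_join (allR_range p268 (by norm_num : 102912 + 384 = 103296)) (range_join (allR_range p269 (by norm_num : 103296 + 384 = 103680)) (allR_range p270 (by norm_num : 103680 + 384 = 104064)))) (range_join (range_join (allR_range p271 (by norm_num : 104064 + 384 = 104448)) (allR_range p272 (by norm_num : 104448 + 384 = 104832))) (range_join (allR_range p273 (by norm_num : 104832 + 384 = 105216)) (allR_range p274 (by norm_num : 105216 + 384 = 105600))))))) (range_join (range_join (range_join (range_join (allR_range p275 (by norm_num : 105600 + 384 = 105984)) (range_join (allR_range p276 (by norm_num : 105984 + 384 = 106368)) (allR_range p277 (by norm_num : 106368 + 384 = 106752))))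 (range_join (allR_range p278 (by norm_num : 106752 + 384 = 107136)) (range_join (allR_range p279 (by norm_num : 107136 + 384 = 107520)) (allR_range p280 (by norm_num : 107520 + 384 = 107904))))) (range_join (range_join (allR_range p281 (by norm_num : 107904 + 384 = 108288)) (range_join (allR_range p282 (by norm_num : 108288 + 384 = 108672)) (allR_range p283 (by norm_num : 108672 + 384 = 109056)))) (range_join (allR_range p284 (by norm_num : 109056 + 384 = 109440)) (range_join (allR_range p285 (by norm_num : 109440 + 384 = 109824)) (allR_range p286 (by norm_num : 109824 + 384 = 110208)))))) (range_join (range_join (range_join (allR_range p287 (by norm_num : 110208 + 384 = 110592)) (range_join (allR_range p288 (by norm_num : 110592 + 384 = 110976)) (allR_range p289 (by norm_num : 110976 + 384 = 111360)))) (range_join (allR_range p290 (by norm_num : 111360 + 384 = 111744)) (range_join (allR_range p291 (by norm_num : 111744 + 384 = 112128)) (allR_range p292 (by norm_num : 112128 + 384 = 112512))))) (range_join (range_join (allR_range p293 (by norm_num : 112512 + 384 = 112896)) (range_join (allR_range p294 (by norm_num : 112896 + 384 = 113280)) (allR_range p295 (by norm_num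 : 113280 + 384 = 113664)))) (range_join (range_join (allR_range p296 (by norm_num : 113664 + 384 = 114048)) (allR_range p297 (by norm_num : 114048 + 384 = 114432))) (range_join (allR_range p298 (by norm_num : 114432 + 384 = 114816)) (allR_range p299 (by norm_num : 114816 + 384 = 115200))))))))) (range_join (range_join (range_join (range_join (range_join (range_join (allR_range p300 (by norm_num : 115200 + 384 = 115584)) (range_join (allR_range p301 (by norm_num : 115584 + 384 = 115968)) (allR_range p302 (by norm_num : 115968 + 384 = 116352)))) (range_join (allR_range p303 (by norm_num : 116352 + 384 = 116736)) (range_join (allR_range p304 (by norm_num : 116736 + 384 = 117120)) (allR_range p305 (by norm_num : 117120 + 384 = 117504))))) (range_join (range_join (allR_range p306 (by norm_num : 117504 + 384 = 117888)) (range_join (allR_range p307 (by norm_num : 117888 + 384 = 118272)) (allR_range p308 (by norm_num : 118272 + 384 = 118656)))) (range_join (allR_range p309 (by norm_num : 118656 + 384 = 119040)) (range_join (allR_range p310 (by norm_num : 119040 + 384 = 119424)) (allR_range p311 (by norm_num : 119424 + 384 = 119808)))))) (range_join (range_join (range_join (allR_range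 p312 (by norm_num : 119808 + 384 = 120192)) (range_join (allR_range p313 (by norm_num : 120192 + 384 = 120576)) (allR_range p314 (by norm_num : 120576 + 384 = 120960)))) (range_join (allR_range p315 (by norm_num : 120960 + 384 = 121344)) (range_join (allR_range p316 (by norm_num : 121344 + 384 = 121728)) (allR_range p317 (by norm_num : 121728 + 384 = 122112))))) (range_join (range_join (allR_range p318 (by norm_num : 122112 + 384 = 122496)) (range_join (allR_range p319 (by norm_num : 122496 + 384 = 122880)) (allR_range p320 (by norm_num : 122880 + 384 = 123264)))) (range_join (range_join (allR_range p321 (by norm_num : 123264 + 384 = 123648)) (allR_range p322 (by norm_num : 123648 + 384 = 124032))) (range_join (allR_range p323 (by norm_num : 124032 + 384 = 124416)) (allR_range p324 (by norm_num : 124416 + 384 = 124800))))))) (range_join (range_join (range_join (range_join (allR_range p325 (by norm_num : 124800 + 384 = 125184)) (range_join (allR_range p326 (by norm_num : 125184 + 384 = 125568)) (allR_range p327 (by norm_num : 125568 + 384 = 125952)))) (range_join (allR_range p328 (by norm_num : 125952 + 384 = 126336)) (range_join (allR_range p329 (by norm_num : 126336 +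 384 = 126720)) (allR_range p330 (by norm_num : 126720 + 384 = 127104))))) (range_join (range_join (allR_range p331 (by norm_num : 127104 + 384 = 127488)) (range_join (allR_range p332 (by norm_num : 127488 + 384 = 127872)) (allR_range p333 (by norm_num : 127872 + 384 = 128256)))) (range_join (allR_range p334 (by norm_num : 128256 + 384 = 128640)) (range_join (allR_range p335 (by norm_num : 128640 + 384 = 129024)) (allR_range p336 (by norm_num : 129024 + 384 = 129408)))))) (range_join (range_join (range_join (allR_range p337 (by norm_num : 129408 + 384 = 129792)) (range_join (allR_range p338 (by norm_num : 129792 + 384 = 130176)) (allR_range p339 (by norm_num : 130176 + 384 = 130560)))) (range_join (allR_range p340 (by norm_num : 130560 + 384 = 130944)) (range_join (allR_range p341 (by norm_num : 130944 + 384 = 131328)) (allR_range p342 (by norm_num : 131328 + 384 = 131712))))) (range_join (range_join (allR_range p343 (by norm_num : 131712 + 384 = 132096)) (range_join (allR_range p344 (by norm_num : 132096 + 384 = 132480)) (allR_range p345 (by norm_num : 132480 + 384 = 132864)))) (range_join (range_join (allR_range p346 (by norm_num : 132864 + 384 = 133248)) (allR_range p347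 (by norm_num : 133248 + 384 = 133632))) (range_join (allR_range p348 (by norm_num : 133632 + 384 = 134016)) (allR_range p349 (by norm_num : 134016 + 384 = 134400)))))))) (range_join (range_join (range_join (range_join (range_join (allR_range p350 (by norm_num : 134400 + 384 = 134784)) (range_join (allR_range p351 (by norm_num : 134784 + 384 = 135168)) (allR_range p352 (by norm_num : 135168 + 384 = 135552)))) (range_join (allR_range p353 (by norm_num : 135552 + 384 = 135936)) (range_join (allR_range p354 (by norm_num : 135936 + 384 = 136320)) (allR_range p355 (by norm_num : 136320 + 384 = 136704))))) (range_join (range_join (allR_range p356 (by norm_num : 136704 + 384 = 137088)) (range_join (allR_range p357 (by norm_num : 137088 + 384 = 137472)) (allR_range p358 (by norm_num : 137472 + 384 = 137856)))) (range_join (allR_range p359 (by norm_num : 137856 + 384 = 138240)) (range_join (allR_range p360 (by norm_num : 138240 + 384 = 138624)) (allR_range p361 (by norm_num : 138624 + 384 = 139008)))))) (range_join (range_join (range_join (allR_range p362 (by norm_num : 139008 + 384 = 139392)) (range_join (allR_range p363 (by norm_num : 139392 + 384 = 139776)) (allR_range p364 (by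 norm_num : 139776 + 384 = 140160)))) (range_join (allR_range p365 (by norm_num : 140160 + 384 = 140544)) (range_join (allR_range p366 (by norm_num : 140544 + 384 = 140928)) (allR_range p367 (by norm_num : 140928 + 384 = 141312))))) (range_join (range_join (allR_range p368 (by norm_num : 141312 + 384 = 141696)) (range_join (allR_range p369 (by norm_num : 141696 + 384 = 142080)) (allR_range p370 (by norm_num : 142080 + 384 = 142464)))) (range_join (range_join (allR_range p371 (by norm_num : 142464 + 384 = 142848)) (allR_range p372 (by norm_num : 142848 + 384 = 143232))) (range_join (allR_range p373 (by norm_num : 143232 + 384 = 143616)) (allR_range p374 (by norm_num : 143616 + 384 = 144000))))))) (range_join (range_join (range_join (range_join (allR_range p375 (by norm_num : 144000 + 384 = 144384)) (range_join (allR_range p376 (by norm_num : 144384 + 384 = 144768)) (allR_range p377 (by norm_num : 144768 + 384 = 145152)))) (range_join (allR_range p378 (by norm_num : 145152 + 384 = 145536)) (range_join (allR_range p379 (by norm_num : 145536 + 384 = 145920)) (allR_range p380 (by norm_num : 145920 + 384 = 146304))))) (range_join (range_join (allR_range p381 (by norm_num : 146304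 + 384 = 146688)) (range_join (allR_range p382 (by norm_num : 146688 + 384 = 147072)) (allR_range p383 (by norm_num : 147072 + 384 = 147456)))) (range_join (allR_range p384 (by norm_num : 147456 + 384 = 147840)) (range_join (allR_range p385 (by norm_num : 147840 + 384 = 148224)) (allR_range p386 (by norm_num : 148224 + 384 = 148608)))))) (range_join (range_join (range_join (allR_range p387 (by norm_num : 148608 + 384 = 148992)) (range_join (allR_range p388 (by norm_num : 148992 + 384 = 149376)) (allR_range p389 (by norm_num : 149376 + 384 = 149760)))) (range_join (allR_range p390 (by norm_num : 149760 + 384 = 150144)) (range_join (allR_range p391 (by norm_num : 150144 + 384 = 150528)) (allR_range p392 (by norm_num : 150528 + 384 = 150912))))) (range_join (range_join (allR_range p393 (by norm_num : 150912 + 384 = 151296)) (range_join (allR_range p394 (by norm_num : 151296 + 384 = 151680)) (allR_range p395 (by norm_num : 151680 + 384 = 152064)))) (range_join (range_join (allR_range p396 (by norm_num : 152064 + 384 = 152448)) (allR_range p397 (by norm_num : 152448 + 384 = 152832))) (range_join (allR_range p398 (by norm_num : 152832 + 384 = 153216)) (allR_range p399 (by norm_num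 : 153216 + 384 = 153600))))))))))) (range_join (range_join (range_join (range_join (range_join (range_join (range_join (range_join (allR_range p400 (by norm_num : 153600 + 384 = 153984)) (range_join (allR_range p401 (by norm_num : 153984 + 384 = 154368)) (allR_range p402 (by norm_num : 154368 + 384 = 154752)))) (range_join (allR_range p403 (by norm_num : 154752 + 384 = 155136)) (range_join (allR_range p404 (by norm_num : 155136 + 384 = 155520)) (allR_range p405 (by norm_num : 155520 + 384 = 155904))))) (range_join (range_join (allR_range p406 (by norm_num : 155904 + 384 = 156288)) (range_join (allR_range p407 (by norm_num : 156288 + 384 = 156672)) (allR_range p408 (by norm_num : 156672 + 384 = 157056)))) (range_join (allR_range p409 (by norm_num : 157056 + 384 = 157440)) (range_join (allR_range p410 (by norm_num : 157440 + 384 = 157824)) (allR_range p411 (by norm_num : 157824 + 384 = 158208)))))) (range_join (range_join (range_join (allR_range p412 (by norm_num : 158208 + 384 = 158592)) (range_join (allR_range p413 (by norm_num : 158592 + 384 = 158976)) (allR_range p414 (by norm_num : 158976 + 384 = 159360)))) (range_join (allR_range p415 (by norm_num : 159360 + 384 = 159744))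 (range_join (allR_range p416 (by norm_num : 159744 + 384 = 160128)) (allR_range p417 (by norm_num : 160128 + 384 = 160512))))) (range_join (range_join (allR_range p418 (by norm_num : 160512 + 384 = 160896)) (range_join (allR_range p419 (by norm_num : 160896 + 384 = 161280)) (allR_range p420 (by norm_num : 161280 + 384 = 161664)))) (range_join (range_join (allR_range p421 (by norm_num : 161664 + 384 = 162048)) (allR_range p422 (by norm_num : 162048 + 384 = 162432))) (range_join (allR_range p423 (by norm_num : 162432 + 384 = 162816)) (allR_range p424 (by norm_num : 162816 + 384 = 163200))))))) (range_join (range_join (range_join (range_join (allR_range p425 (by norm_num : 163200 + 384 = 163584)) (range_join (allR_range p426 (by norm_num : 163584 + 384 = 163968)) (allR_range p427 (by norm_num : 163968 + 384 = 164352)))) (range_join (allR_range p428 (by norm_num : 164352 + 384 = 164736)) (range_join (allR_range p429 (by norm_num : 164736 + 384 = 165120)) (allR_range p430 (by norm_num : 165120 + 384 = 165504))))) (range_join (range_join (allR_range p431 (by norm_num : 165504 + 384 = 165888)) (range_join (allR_range p432 (by norm_num : 165888 + 384 = 166272)) (allR_range p433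 (by norm_num : 166272 + 384 = 166656)))) (range_join (allR_range p434 (by norm_num : 166656 + 384 = 167040)) (range_join (allR_range p435 (by norm_num : 167040 + 384 = 167424)) (allR_range p436 (by norm_num : 167424 + 384 = 167808)))))) (range_join (range_join (range_join (allR_range p437 (by norm_num : 167808 + 384 = 168192)) (range_join (allR_range p438 (by norm_num : 168192 + 384 = 168576)) (allR_range p439 (by norm_num : 168576 + 384 = 168960)))) (range_join (allR_range p440 (by norm_num : 168960 + 384 = 169344)) (range_join (allR_range p441 (by norm_num : 169344 + 384 = 169728)) (allR_range p442 (by norm_num : 169728 + 384 = 170112))))) (range_join (range_join (allR_range p443 (by norm_num : 170112 + 384 = 170496)) (range_join (allR_range p444 (by norm_num : 170496 + 384 = 170880)) (allR_range p445 (by norm_num : 170880 + 384 = 171264)))) (range_join (range_join (allR_range p446 (by norm_num : 171264 + 384 = 171648)) (allR_range p447 (by norm_num : 171648 + 384 = 172032))) (range_join (allR_range p448 (by norm_num : 172032 + 384 = 172416)) (allR_range p449 (by norm_num : 172416 + 384 = 172800)))))))) (range_join (range_join (range_join (range_join (range_join (allR_range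 p450 (by norm_num : 172800 + 384 = 173184)) (range_join (allR_range p451 (by norm_num : 173184 + 384 = 173568)) (allR_range p452 (by norm_num : 173568 + 384 = 173952)))) (range_join (allR_range p453 (by norm_num : 173952 + 384 = 174336)) (range_join (allR_range p454 (by norm_num : 174336 + 384 = 174720)) (allR_range p455 (by norm_num : 174720 + 384 = 175104))))) (range_join (range_join (allR_range p456 (by norm_num : 175104 + 384 = 175488)) (range_join (allR_range p457 (by norm_num : 175488 + 384 = 175872)) (allR_range p458 (by norm_num : 175872 + 384 = 176256)))) (range_join (allR_range p459 (by norm_num : 176256 + 384 = 176640)) (range_join (allR_range p460 (by norm_num : 176640 + 384 = 177024)) (allR_range p461 (by norm_num : 177024 + 384 = 177408)))))) (range_join (range_join (range_join (allR_range p462 (by norm_num : 177408 + 384 = 177792)) (range_join (allR_range p463 (by norm_num : 177792 + 384 = 178176)) (allR_range p464 (by norm_num : 178176 + 384 = 178560)))) (range_join (allR_range p465 (by norm_num : 178560 + 384 = 178944)) (range_join (allR_range p466 (by norm_num : 178944 + 384 = 179328)) (allR_range p467 (by norm_num : 179328 + 384 = 179712))))) (range_join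 (range_join (allR_range p468 (by norm_num : 179712 + 384 = 180096)) (range_join (allR_range p469 (by norm_num : 180096 + 384 = 180480)) (allR_range p470 (by norm_num : 180480 + 384 = 180864)))) (range_join (range_join (allR_range p471 (by norm_num : 180864 + 384 = 181248)) (allR_range p472 (by norm_num : 181248 + 384 = 181632))) (range_join (allR_range p473 (by norm_num : 181632 + 384 = 182016)) (allR_range p474 (by norm_num : 182016 + 384 = 182400))))))) (range_join (range_join (range_join (range_join (allR_range p475 (by norm_num : 182400 + 384 = 182784)) (range_join (allR_range p476 (by norm_num : 182784 + 384 = 183168)) (allR_range p477 (by norm_num : 183168 + 384 = 183552)))) (range_join (allR_range p478 (by norm_num : 183552 + 384 = 183936)) (range_join (allR_range p479 (by norm_num : 183936 + 384 = 184320)) (allR_range p480 (by norm_num : 184320 + 384 = 184704))))) (range_join (range_join (allR_range p481 (by norm_num : 184704 + 384 = 185088)) (range_join (allR_range p482 (by norm_num : 185088 + 384 = 185472)) (allR_range p483 (by norm_num : 185472 + 384 = 185856)))) (range_join (allR_range p484 (by norm_num : 185856 + 384 = 186240)) (range_join (allR_range p485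 (by norm_num : 186240 + 384 = 186624)) (allR_range p486 (by norm_num : 186624 + 384 = 187008)))))) (range_join (range_join (range_join (allR_range p487 (by norm_num : 187008 + 384 = 187392)) (range_join (allR_range p488 (by norm_num : 187392 + 384 = 187776)) (allR_range p489 (by norm_num : 187776 + 384 = 188160)))) (range_join (allR_range p490 (by norm_num : 188160 + 384 = 188544)) (range_join (allR_range p491 (by norm_num : 188544 + 384 = 188928)) (allR_range p492 (by norm_num : 188928 + 384 = 189312))))) (range_join (range_join (allR_range p493 (by norm_num : 189312 + 384 = 189696)) (range_join (allR_range p494 (by norm_num : 189696 + 384 = 190080)) (allR_range p495 (by norm_num : 190080 + 384 = 190464)))) (range_join (range_join (allR_range p496 (by norm_num : 190464 + 384 = 190848)) (allR_range p497 (by norm_num : 190848 + 384 = 191232))) (range_join (allR_range p498 (by norm_num : 191232 + 384 = 191616)) (allR_range p499 (by norm_num : 191616 + 384 = 192000))))))))) (range_join (range_join (range_join (range_join (range_join (range_join (allR_range p500 (by norm_num : 192000 + 384 = 192384)) (range_join (allR_range p501 (by norm_num : 192384 + 384 = 192768)) (allR_range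 p502 (by norm_num : 192768 + 384 = 193152)))) (range_join (allR_range p503 (by norm_num : 193152 + 384 = 193536)) (range_join (allR_range p504 (by norm_num : 193536 + 384 = 193920)) (allR_range p505 (by norm_num : 193920 + 384 = 194304))))) (range_join (range_join (allR_range p506 (by norm_num : 194304 + 384 = 194688)) (range_join (allR_range p507 (by norm_num : 194688 + 384 = 195072)) (allR_range p508 (by norm_num : 195072 + 384 = 195456)))) (range_join (allR_range p509 (by norm_num : 195456 + 384 = 195840)) (range_join (allR_range p510 (by norm_num : 195840 + 384 = 196224)) (allR_range p511 (by norm_num : 196224 + 384 = 196608)))))) (range_join (range_join (range_join (allR_range p512 (by norm_num : 196608 + 384 = 196992)) (range_join (allR_range p513 (by norm_num : 196992 + 384 = 197376)) (allR_range p514 (by norm_num : 197376 + 384 = 197760)))) (range_join (allR_range p515 (by norm_num : 197760 + 384 = 198144)) (range_join (allR_range p516 (by norm_num : 198144 + 384 = 198528)) (allR_range p517 (by norm_num : 198528 + 384 = 198912))))) (range_join (range_join (allR_range p518 (by norm_num : 198912 + 384 = 199296)) (range_join (allR_range p519 (by norm_num : 199296 +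 384 = 199680)) (allR_range p520 (by norm_num : 199680 + 384 = 200064)))) (range_join (range_join (allR_range p521 (by norm_num : 200064 + 384 = 200448)) (allR_range p522 (by norm_num : 200448 + 384 = 200832))) (range_join (allR_range p523 (by norm_num : 200832 + 384 = 201216)) (allR_range p524 (by norm_num : 201216 + 384 = 201600))))))) (range_join (range_join (range_join (range_join (allR_range p525 (by norm_num : 201600 + 384 = 201984)) (range_join (allR_range p526 (by norm_num : 201984 + 384 = 202368)) (allR_range p527 (by norm_num : 202368 + 384 = 202752)))) (range_join (allR_range p528 (by norm_num : 202752 + 384 = 203136)) (range_join (allR_range p529 (by norm_num : 203136 + 384 = 203520)) (allR_range p530 (by norm_num : 203520 + 384 = 203904))))) (range_join (range_join (allR_range p531 (by norm_num : 203904 + 384 = 204288)) (range_join (allR_range p532 (by norm_num : 204288 + 384 = 204672)) (allR_range p533 (by norm_num : 204672 + 384 = 205056)))) (range_join (allR_range p534 (by norm_num : 205056 + 384 = 205440)) (range_join (allR_range p535 (by norm_num : 205440 + 384 = 205824)) (allR_range p536 (by norm_num : 205824 + 384 = 206208)))))) (range_join (range_join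 (range_join (allR_range p537 (by norm_num : 206208 + 384 = 206592)) (range_join (allR_range p538 (by norm_num : 206592 + 384 = 206976)) (allR_range p539 (by norm_num : 206976 + 384 = 207360)))) (range_join (allR_range p540 (by norm_num : 207360 + 384 = 207744)) (range_join (allR_range p541 (by norm_num : 207744 + 384 = 208128)) (allR_range p542 (by norm_num : 208128 + 384 = 208512))))) (range_join (range_join (allR_range p543 (by norm_num : 208512 + 384 = 208896)) (range_join (allR_range p544 (by norm_num : 208896 + 384 = 209280)) (allR_range p545 (by norm_num : 209280 + 384 = 209664)))) (range_join (range_join (allR_range p546 (by norm_num : 209664 + 384 = 210048)) (allR_range p547 (by norm_num : 210048 + 384 = 210432))) (range_join (allR_range p548 (by norm_num : 210432 + 384 = 210816)) (allR_range p549 (by norm_num : 210816 + 384 = 211200)))))))) (range_join (range_join (range_join (range_join (range_join (allR_range p550 (by norm_num : 211200 + 384 = 211584)) (range_join (allR_range p551 (by norm_num : 211584 + 384 = 211968)) (allR_range p552 (by norm_num : 211968 + 384 = 212352)))) (range_join (allR_range p553 (by norm_num : 212352 + 384 = 212736)) (range_join (allR_range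 p554 (by norm_num : 212736 + 384 = 213120)) (allR_range p555 (by norm_num : 213120 + 384 = 213504))))) (range_join (range_join (allR_range p556 (by norm_num : 213504 + 384 = 213888)) (range_join (allR_range p557 (by norm_num : 213888 + 384 = 214272)) (allR_range p558 (by norm_num : 214272 + 384 = 214656)))) (range_join (allR_range p559 (by norm_num : 214656 + 384 = 215040)) (range_join (allR_range p560 (by norm_num : 215040 + 384 = 215424)) (allR_range p561 (by norm_num : 215424 + 384 = 215808)))))) (range_join (range_join (range_join (allR_range p562 (by norm_num : 215808 + 384 = 216192)) (range_join (allR_range p563 (by norm_num : 216192 + 384 = 216576)) (allR_range p564 (by norm_num : 216576 + 384 = 216960)))) (range_join (allR_range p565 (by norm_num : 216960 + 384 = 217344)) (range_join (allR_range p566 (by norm_num : 217344 + 384 = 217728)) (allR_range p567 (by norm_num : 217728 + 384 = 218112))))) (range_join (range_join (allR_range p568 (by norm_num : 218112 + 384 = 218496)) (range_join (allR_range p569 (by norm_num : 218496 + 384 = 218880)) (allR_range p570 (by norm_num : 218880 + 384 = 219264)))) (range_join (range_join (allR_range p571 (by norm_num : 219264 +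 384 = 219648)) (allR_range p572 (by norm_num : 219648 + 384 = 220032))) (range_join (allR_range p573 (by norm_num : 220032 + 384 = 220416)) (allR_range p574 (by norm_num : 220416 + 384 = 220800))))))) (range_join (range_join (range_join (range_join (allR_range p575 (by norm_num : 220800 + 384 = 221184)) (range_join (allR_range p576 (by norm_num : 221184 + 384 = 221568)) (allR_range p577 (by norm_num : 221568 + 384 = 221952)))) (range_join (allR_range p578 (by norm_num : 221952 + 384 = 222336)) (range_join (allR_range p579 (by norm_num : 222336 + 384 = 222720)) (allR_range p580 (by norm_num : 222720 + 384 = 223104))))) (range_join (range_join (allR_range p581 (by norm_num : 223104 + 384 = 223488)) (range_join (allR_range p582 (by norm_num : 223488 + 384 = 223872)) (allR_range p583 (by norm_num : 223872 + 384 = 224256)))) (range_join (allR_range p584 (by norm_num : 224256 + 384 = 224640)) (range_join (allR_range p585 (by norm_num : 224640 + 384 = 225024)) (allR_range p586 (by norm_num : 225024 + 384 = 225408)))))) (range_join (range_join (range_join (allR_range p587 (by norm_num : 225408 + 384 = 225792)) (range_join (allR_range p588 (by norm_num : 225792 + 384 = 226176))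 (allR_range p589 (by norm_num : 226176 + 384 = 226560)))) (range_join (allR_range p590 (by norm_num : 226560 + 384 = 226944)) (range_join (allR_range p591 (by norm_num : 226944 + 384 = 227328)) (allR_range p592 (by norm_num : 227328 + 384 = 227712))))) (range_join (range_join (allR_range p593 (by norm_num : 227712 + 384 = 228096)) (range_join (allR_range p594 (by norm_num : 228096 + 384 = 228480)) (allR_range p595 (by norm_num : 228480 + 384 = 228864)))) (range_join (range_join (allR_range p596 (by norm_num : 228864 + 384 = 229248)) (allR_range p597 (by norm_num : 229248 + 384 = 229632))) (range_join (allR_range p598 (by norm_num : 229632 + 384 = 230016)) (allR_range p599 (by norm_num : 230016 + 384 = 230400)))))))))) (range_join (range_join (range_join (range_join (range_join (range_join (range_join (allR_range p600 (by norm_num : 230400 + 384 = 230784)) (range_join (allR_range p601 (by norm_num : 230784 + 384 = 231168)) (allR_range p602 (by norm_num : 231168 + 384 = 231552)))) (range_join (allR_range p603 (by norm_num : 231552 + 384 = 231936)) (range_join (allR_range p604 (by norm_num : 231936 + 384 = 232320)) (allR_range p605 (by norm_num : 232320 + 384 = 232704)))))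 (range_join (range_join (allR_range p606 (by norm_num : 232704 + 384 = 233088)) (range_join (allR_range p607 (by norm_num : 233088 + 384 = 233472)) (allR_range p608 (by norm_num : 233472 + 384 = 233856)))) (range_join (allR_range p609 (by norm_num : 233856 + 384 = 234240)) (range_join (allR_range p610 (by norm_num : 234240 + 384 = 234624)) (allR_range p611 (by norm_num : 234624 + 384 = 235008)))))) (range_join (range_join (range_join (allR_range p612 (by norm_num : 235008 + 384 = 235392)) (range_join (allR_range p613 (by norm_num : 235392 + 384 = 235776)) (allR_range p614 (by norm_num : 235776 + 384 = 236160)))) (range_join (allR_range p615 (by norm_num : 236160 + 384 = 236544)) (range_join (allR_range p616 (by norm_num : 236544 + 384 = 236928)) (allR_range p617 (by norm_num : 236928 + 384 = 237312))))) (range_join (range_join (allR_range p618 (by norm_num : 237312 + 384 = 237696)) (range_join (allR_range p619 (by norm_num : 237696 + 384 = 238080)) (allR_range p620 (by norm_num : 238080 + 384 = 238464)))) (range_join (range_join (allR_range p621 (by norm_num : 238464 + 384 = 238848)) (allR_range p622 (by norm_num : 238848 + 384 = 239232))) (range_join (allR_range p623 (by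 norm_num : 239232 + 384 = 239616)) (allR_range p624 (by norm_num : 239616 + 384 = 240000))))))) (range_join (range_join (range_join (range_join (allR_range p625 (by norm_num : 240000 + 384 = 240384)) (range_join (allR_range p626 (by norm_num : 240384 + 384 = 240768)) (allR_range p627 (by norm_num : 240768 + 384 = 241152)))) (range_join (allR_range p628 (by norm_num : 241152 + 384 = 241536)) (range_join (allR_range p629 (by norm_num : 241536 + 384 = 241920)) (allR_range p630 (by norm_num : 241920 + 384 = 242304))))) (range_join (range_join (allR_range p631 (by norm_num : 242304 + 384 = 242688)) (range_join (allR_range p632 (by norm_num : 242688 + 384 = 243072)) (allR_range p633 (by norm_num : 243072 + 384 = 243456)))) (range_join (allR_range p634 (by norm_num : 243456 + 384 = 243840)) (range_join (allR_range p635 (by norm_num : 243840 + 384 = 244224)) (allR_range p636 (by norm_num : 244224 + 384 = 244608)))))) (range_join (range_join (range_join (allR_range p637 (by norm_num : 244608 + 384 = 244992)) (range_join (allR_range p638 (by norm_num : 244992 + 384 = 245376)) (allR_range p639 (by norm_num : 245376 + 384 = 245760)))) (range_join (allR_range p640 (by norm_num : 245760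 + 384 = 246144)) (range_join (allR_range p641 (by norm_num : 246144 + 384 = 246528)) (allR_range p642 (by norm_num : 246528 + 384 = 246912))))) (range_join (range_join (allR_range p643 (by norm_num : 246912 + 384 = 247296)) (range_join (allR_range p644 (by norm_num : 247296 + 384 = 247680)) (allR_range p645 (by norm_num : 247680 + 384 = 248064)))) (range_join (range_join (allR_range p646 (by norm_num : 248064 + 384 = 248448)) (allR_range p647 (by norm_num : 248448 + 384 = 248832))) (range_join (allR_range p648 (by norm_num : 248832 + 384 = 249216)) (allR_range p649 (by norm_num : 249216 + 384 = 249600)))))))) (range_join (range_join (range_join (range_join (range_join (allR_range p650 (by norm_num : 249600 + 384 = 249984)) (range_join (allR_range p651 (by norm_num : 249984 + 384 = 250368)) (allR_range p652 (by norm_num : 250368 + 384 = 250752)))) (range_join (allR_range p653 (by norm_num : 250752 + 384 = 251136)) (range_join (allR_range p654 (by norm_num : 251136 + 384 = 251520)) (allR_range p655 (by norm_num : 251520 + 384 = 251904))))) (range_join (range_join (allR_range p656 (by norm_num : 251904 + 384 = 252288)) (range_join (allR_range p657 (by norm_num : 252288 + 384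 = 252672)) (allR_range p658 (by norm_num : 252672 + 384 = 253056)))) (range_join (allR_range p659 (by norm_num : 253056 + 384 = 253440)) (range_join (allR_range p660 (by norm_num : 253440 + 384 = 253824)) (allR_range p661 (by norm_num : 253824 + 384 = 254208)))))) (range_join (range_join (range_join (allR_range p662 (by norm_num : 254208 + 384 = 254592)) (range_join (allR_range p663 (by norm_num : 254592 + 384 = 254976)) (allR_range p664 (by norm_num : 254976 + 384 = 255360)))) (range_join (allR_range p665 (by norm_num : 255360 + 384 = 255744)) (range_join (allR_range p666 (by norm_num : 255744 + 384 = 256128)) (allR_range p667 (by norm_num : 256128 + 384 = 256512))))) (range_join (range_join (allR_range p668 (by norm_num : 256512 + 384 = 256896)) (range_join (allR_range p669 (by norm_num : 256896 + 384 = 257280)) (allR_range p670 (by norm_num : 257280 + 384 = 257664)))) (range_join (range_join (allR_range p671 (by norm_num : 257664 + 384 = 258048)) (allR_range p672 (by norm_num : 258048 + 384 = 258432))) (range_join (allR_range p673 (by norm_num : 258432 + 384 = 258816)) (allR_range p674 (by norm_num : 258816 + 384 = 259200))))))) (range_join (range_join (range_join (range_join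 (allR_range p675 (by norm_num : 259200 + 384 = 259584)) (range_join (allR_range p676 (by norm_num : 259584 + 384 = 259968)) (allR_range p677 (by norm_num : 259968 + 384 = 260352)))) (range_join (allR_range p678 (by norm_num : 260352 + 384 = 260736)) (range_join (allR_range p679 (by norm_num : 260736 + 384 = 261120)) (allR_range p680 (by norm_num : 261120 + 384 = 261504))))) (range_join (range_join (allR_range p681 (by norm_num : 261504 + 384 = 261888)) (range_join (allR_range p682 (by norm_num : 261888 + 384 = 262272)) (allR_range p683 (by norm_num : 262272 + 384 = 262656)))) (range_join (allR_range p684 (by norm_num : 262656 + 384 = 263040)) (range_join (allR_range p685 (by norm_num : 263040 + 384 = 263424)) (allR_range p686 (by norm_num : 263424 + 384 = 263808)))))) (range_join (range_join (range_join (allR_range p687 (by norm_num : 263808 + 384 = 264192)) (range_join (allR_range p688 (by norm_num : 264192 + 384 = 264576)) (allR_range p689 (by norm_num : 264576 + 384 = 264960)))) (range_join (allR_range p690 (by norm_num : 264960 + 384 = 265344)) (range_join (allR_range p691 (by norm_num : 265344 + 384 = 265728)) (allR_range p692 (by norm_num : 265728 + 384 = 266112)))))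 (range_join (range_join (allR_range p693 (by norm_num : 266112 + 384 = 266496)) (range_join (allR_range p694 (by norm_num : 266496 + 384 = 266880)) (allR_range p695 (by norm_num : 266880 + 384 = 267264)))) (range_join (range_join (allR_range p696 (by norm_num : 267264 + 384 = 267648)) (allR_range p697 (by norm_num : 267648 + 384 = 268032))) (range_join (allR_range p698 (by norm_num : 268032 + 384 = 268416)) (allR_range p699 (by norm_num : 268416 + 384 = 268800))))))))) (range_join (range_join (range_join (range_join (range_join (range_join (allR_range p700 (by norm_num : 268800 + 384 = 269184)) (range_join (allR_range p701 (by norm_num : 269184 + 384 = 269568)) (allR_range p702 (by norm_num : 269568 + 384 = 269952)))) (range_join (allR_range p703 (by norm_num : 269952 + 384 = 270336)) (range_join (allR_range p704 (by norm_num : 270336 + 384 = 270720)) (allR_range p705 (by norm_num : 270720 + 384 = 271104))))) (range_join (range_join (allR_range p706 (by norm_num : 271104 + 384 = 271488)) (range_join (allR_range p707 (by norm_num : 271488 + 384 = 271872)) (allR_range p708 (by norm_num : 271872 + 384 = 272256)))) (range_join (allR_range p709 (by norm_num : 272256 + 384 =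 272640)) (range_join (allR_range p710 (by norm_num : 272640 + 384 = 273024)) (allR_range p711 (by norm_num : 273024 + 384 = 273408)))))) (range_join (range_join (range_join (allR_range p712 (by norm_num : 273408 + 384 = 273792)) (range_join (allR_range p713 (by norm_num : 273792 + 384 = 274176)) (allR_range p714 (by norm_num : 274176 + 384 = 274560)))) (range_join (allR_range p715 (by norm_num : 274560 + 384 = 274944)) (range_join (allR_range p716 (by norm_num : 274944 + 384 = 275328)) (allR_range p717 (by norm_num : 275328 + 384 = 275712))))) (range_join (range_join (allR_range p718 (by norm_num : 275712 + 384 = 276096)) (range_join (allR_range p719 (by norm_num : 276096 + 384 = 276480)) (allR_range p720 (by norm_num : 276480 + 384 = 276864)))) (range_join (range_join (allR_range p721 (by norm_num : 276864 + 384 = 277248)) (allR_range p722 (by norm_num : 277248 + 384 = 277632))) (range_join (allR_range p723 (by norm_num : 277632 + 384 = 278016)) (allR_range p724 (by norm_num : 278016 + 384 = 278400))))))) (range_join (range_join (range_join (range_join (allR_range p725 (by norm_num : 278400 + 384 = 278784)) (range_join (allR_range p726 (by norm_num : 278784 + 384 = 279168))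 (allR_range p727 (by norm_num : 279168 + 384 = 279552)))) (range_join (allR_range p728 (by norm_num : 279552 + 384 = 279936)) (range_join (allR_range p729 (by norm_num : 279936 + 384 = 280320)) (allR_range p730 (by norm_num : 280320 + 384 = 280704))))) (range_join (range_join (allR_range p731 (by norm_num : 280704 + 384 = 281088)) (range_join (allR_range p732 (by norm_num : 281088 + 384 = 281472)) (allR_range p733 (by norm_num : 281472 + 384 = 281856)))) (range_join (allR_range p734 (by norm_num : 281856 + 384 = 282240)) (range_join (allR_range p735 (by norm_num : 282240 + 384 = 282624)) (allR_range p736 (by norm_num : 282624 + 384 = 283008)))))) (range_join (range_join (range_join (allR_range p737 (by norm_num : 283008 + 384 = 283392)) (range_join (allR_range p738 (by norm_num : 283392 + 384 = 283776)) (allR_range p739 (by norm_num : 283776 + 384 = 284160)))) (range_join (allR_range p740 (by norm_num : 284160 + 384 = 284544)) (range_join (allR_range p741 (by norm_num : 284544 + 384 = 284928)) (allR_range p742 (by norm_num : 284928 + 384 = 285312))))) (range_join (range_join (allR_range p743 (by norm_num : 285312 + 384 = 285696)) (range_join (allR_range p744 (by norm_num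 : 285696 + 384 = 286080)) (allR_range p745 (by norm_num : 286080 + 384 = 286464)))) (range_join (range_join (allR_range p746 (by norm_num : 286464 + 384 = 286848)) (allR_range p747 (by norm_num : 286848 + 384 = 287232))) (range_join (allR_range p748 (by norm_num : 287232 + 384 = 287616)) (allR_range p749 (by norm_num : 287616 + 384 = 288000)))))))) (range_join (range_join (range_join (range_join (range_join (allR_range p750 (by norm_num : 288000 + 384 = 288384)) (range_join (allR_range p751 (by norm_num : 288384 + 384 = 288768)) (allR_range p752 (by norm_num : 288768 + 384 = 289152)))) (range_join (allR_range p753 (by norm_num : 289152 + 384 = 289536)) (range_join (allR_range p754 (by norm_num : 289536 + 384 = 289920)) (allR_range p755 (by norm_num : 289920 + 384 = 290304))))) (range_join (range_join (allR_range p756 (by norm_num : 290304 + 384 = 290688)) (range_join (allR_range p757 (by norm_num : 290688 + 384 = 291072)) (allR_range p758 (by norm_num : 291072 + 384 = 291456)))) (range_join (allR_range p759 (by norm_num : 291456 + 384 = 291840)) (range_join (allR_range p760 (by norm_num : 291840 + 384 = 292224)) (allR_range p761 (by norm_num : 292224 + 384 = 292608))))))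 (range_join (range_join (range_join (allR_range p762 (by norm_num : 292608 + 384 = 292992)) (range_join (allR_range p763 (by norm_num : 292992 + 384 = 293376)) (allR_range p764 (by norm_num : 293376 + 384 = 293760)))) (range_join (allR_range p765 (by norm_num : 293760 + 384 = 294144)) (range_join (allR_range p766 (by norm_num : 294144 + 384 = 294528)) (allR_range p767 (by norm_num : 294528 + 384 = 294912))))) (range_join (range_join (allR_range p768 (by norm_num : 294912 + 384 = 295296)) (range_join (allR_range p769 (by norm_num : 295296 + 384 = 295680)) (allR_range p770 (by norm_num : 295680 + 384 = 296064)))) (range_join (range_join (allR_range p771 (by norm_num : 296064 + 384 = 296448)) (allR_range p772 (by norm_num : 296448 + 384 = 296832))) (range_join (allR_range p773 (by norm_num : 296832 + 384 = 297216)) (allR_range p774 (by norm_num : 297216 + 384 = 297600))))))) (range_join (range_join (range_join (range_join (allR_range p775 (by norm_num : 297600 + 384 = 297984)) (range_join (allR_range p776 (by norm_num : 297984 + 384 = 298368)) (allR_range p777 (by norm_num : 298368 + 384 = 298752)))) (range_join (allR_range p778 (by norm_num : 298752 + 384 = 299136)) (range_join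 (allR_range p779 (by norm_num : 299136 + 384 = 299520)) (allR_range p780 (by norm_num : 299520 + 384 = 299904))))) (range_join (range_join (allR_range p781 (by norm_num : 299904 + 384 = 300288)) (range_join (allR_range p782 (by norm_num : 300288 + 384 = 300672)) (allR_range p783 (by norm_num : 300672 + 384 = 301056)))) (range_join (allR_range p784 (by norm_num : 301056 + 384 = 301440)) (range_join (allR_range p785 (by norm_num : 301440 + 384 = 301824)) (allR_range p786 (by norm_num : 301824 + 384 = 302208)))))) (range_join (range_join (range_join (allR_range p787 (by norm_num : 302208 + 384 = 302592)) (range_join (allR_range p788 (by norm_num : 302592 + 384 = 302976)) (allR_range p789 (by norm_num : 302976 + 384 = 303360)))) (range_join (allR_range p790 (by norm_num : 303360 + 384 = 303744)) (range_join (allR_range p791 (by norm_num : 303744 + 384 = 304128)) (allR_range p792 (by norm_num : 304128 + 384 = 304512))))) (range_join (range_join (allR_range p793 (by norm_num : 304512 + 384 = 304896)) (range_join (allR_range p794 (by norm_num : 304896 + 384 = 305280)) (allR_range p795 (by norm_num : 305280 + 384 = 305664)))) (range_join (range_join (allR_range p796 (by norm_num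 : 305664 + 384 = 306048)) (allR_range p797 (by norm_num : 306048 + 384 = 306432))) (range_join (allR_range p798 (by norm_num : 306432 + 384 = 306816)) (allR_range p799 (by norm_num : 306816 + 120 = 306936)))))))))))) p h1 h2

theorem hrep : repOK 13 954154417186781389109644624128 LS EQS D Fi24.R = true := by decide +kernel

theorem rep : Good (evR img 306936 13) 954154417186781389109644624128 ∧ Rels (evR img 306936 13) Fi24.R ∧
    IsAct (MonoidHom.id _) (evR img 306936 13) img 306936 13 := rep_sound ptOK hrep

theorem iv0 {G : Type*} [Group G] {φ : G →* Equiv.Perm ℕ} {ev : ℕ → G} (h : IsAct φ ev img 306936 13) :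
    orb φ (gen ev Ws) 1 = Set.Ico 1 31672 :=
  ivl_sound h (by decide +kernel) (range_join (range_join (allR_range q0_0 (by norm_num : 1 + 6818 = 6819)) (allR_range q0_1 (by norm_num : 6819 + 6818 = 13637))) (range_join (allR_range q0_2 (by norm_num : 13637 + 6818 = 20455)) (range_join (allR_range q0_3 (by norm_num : 20455 + 6818 = 27273)) (allR_range q0_4 (by norm_num : 27273 + 4399 = 31672)))))

theorem iv1 {G : Type*} [Group G] {φ : G →* Equiv.Perm ℕ} {ev : ℕ → G} (h : IsAct φ ev img 306936 13) :
    orb φ (gen ev Ws) 31672 = Set.Ico 31672 306936 :=
  ivl_sound h (by decide +kernel) (range_join (range_join (range_join (range_join (range_join (allR_range q1_0 (by norm_num : 31672 + 6818 = 38490)) (allR_range q1_1 (by norm_num : 38490 + 6818 = 45308))) (range_join (allR_range q1_2 (by norm_num : 45308 + 6818 = 52126)) (range_join (allR_range q1_3 (by norm_num : 52126 + 6818 = 58944)) (allR_range q1_4 (by norm_num : 58944 + 6818 = 65762))))) (range_join (range_join (allR_range q1_5 (by norm_num : 65762 + 6818 = 72580)) (allR_range q1_6 (by norm_num : 72580 + 6818 = 79398))) (range_join (allR_range q1_7 (by norm_num : 79398 + 6818 = 86216)) (range_join (allR_range q1_8 (by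 norm_num : 86216 + 6818 = 93034)) (allR_range q1_9 (by norm_num : 93034 + 6818 = 99852)))))) (range_join (range_join (range_join (allR_range q1_10 (by norm_num : 99852 + 6818 = 106670)) (allR_range q1_11 (by norm_num : 106670 + 6818 = 113488))) (range_join (allR_range q1_12 (by norm_num : 113488 + 6818 = 120306)) (range_join (allR_range q1_13 (by norm_num : 120306 + 6818 = 127124)) (allR_range q1_14 (by norm_num : 127124 + 6818 = 133942))))) (range_join (range_join (allR_range q1_15 (by norm_num : 133942 + 6818 = 140760)) (allR_range q1_16 (by norm_num : 140760 + 6818 = 147578))) (range_join (allR_range q1_17 (by norm_num : 147578 + 6818 = 154396)) (range_join (allR_range q1_18 (by norm_num : 154396 + 6818 = 161214)) (allR_range q1_19 (by norm_num : 161214 + 6818 = 168032))))))) (range_join (range_join (range_join (range_join (allR_range q1_20 (by norm_num : 168032 + 6818 = 174850)) (allR_range q1_21 (by norm_num : 174850 + 6818 = 181668))) (range_join (allR_range q1_22 (by norm_num : 181668 + 6818 = 188486)) (range_join (allR_range q1_23 (by norm_num : 188486 + 6818 = 195304)) (allR_range q1_24 (by norm_num : 195304 + 6818 = 202122))))) (range_join (range_join (allR_range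 q1_25 (by norm_num : 202122 + 6818 = 208940)) (allR_range q1_26 (by norm_num : 208940 + 6818 = 215758))) (range_join (allR_range q1_27 (by norm_num : 215758 + 6818 = 222576)) (range_join (allR_range q1_28 (by norm_num : 222576 + 6818 = 229394)) (allR_range q1_29 (by norm_num : 229394 + 6818 = 236212)))))) (range_join (range_join (range_join (allR_range q1_30 (by norm_num : 236212 + 6818 = 243030)) (allR_range q1_31 (by norm_num : 243030 + 6818 = 249848))) (range_join (allR_range q1_32 (by norm_num : 249848 + 6818 = 256666)) (range_join (allR_range q1_33 (by norm_num : 256666 + 6818 = 263484)) (allR_range q1_34 (by norm_num : 263484 + 6818 = 270302))))) (range_join (range_join (allR_range q1_35 (by norm_num : 270302 + 6818 = 277120)) (range_join (allR_range q1_36 (by norm_num : 277120 + 6818 = 283938)) (allR_range q1_37 (by norm_num : 283938 + 6818 = 290756)))) (range_join (allR_range q1_38 (by norm_num : 290756 + 6818 = 297574)) (range_join (allR_range q1_39 (by norm_num : 297574 + 6818 = 304392)) (allR_range q1_40 (by norm_num : 304392 + 2544 = 306936))))))))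


end Cfsg.H6.Fi24
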